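import Groth.Agent.LimBasis.Tower
import Groth.Agent.LimMilnor.Site
import Groth.Agent.TopPullModel.Basic
import Groth.Agent.CohQC.Flasque
import Groth.Agent.CohQC.AcycResolution
import Groth.Agent.CohQC.ToSheafExact
import Groth.Agent.SiteCoh.Cartan
import Mathlib.Algebra.Category.ModuleCat.Sheaf.Limits
import Mathlib.CategoryTheory.Abelian.Injective.Resolution
import Mathlib.CategoryTheory.CofilteredSystem

/-!
Derived limits of towers of sheaves of modules acyclic on a basis.
-/

set_option autoImplicit false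
set_option linter.style.haveILetI false
set_option backward.isDefEq.respectTransparency false
set_option backward.isDefEq.respectTransparency.types false
set_option maxHeartbeats 1000000

universe u

open CategoryTheory Category Limits Opposite TopologicalSpace
open Groth.Agent.SiteCoh Groth.Agent.TopPullModel

namespace Groth.Agent.LimBasis

variable {X : TopCat.{u}} {R : Sheaf (Opens.grothendieckTopology X) RingCat.{u}}

/-- exactness of sheaves from exactness of sections on a basis -/
theorem exact_of_basis (T : ShortComplex (CohTop.Ab X)) {B : Set (Opens X)} (hB : Opens.IsBasis B)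
    (hloc : ∀ V ∈ B, ∀ t : T.X₂.obj.obj (op V), T.g.hom.app (op V) t = 0 →
      ∃ t', T.f.hom.app (op V) t' = t) : T.Exact := by
  rw [TopCat.Sheaf.exact_iff_stalkFunctor_map_exact]
  intro x
  rw [ShortComplex.ab_exact_iff]
  intro a ha
  obtain ⟨O, hxO, t, rfl⟩ := exists_gm_eq T.X₂ a
  have ha' : gm T.X₃ O x hxO (T.g.hom.app (op O) t) = gm T.X₃ O x hxO 0 := by
    rw [map_zero, ← stMap_gm T.g O x hxO t]
    exact ha
  obtain ⟨O', hxO', i₁, i₂, he⟩ := TopCat.Presheaf.germ_eq (C := AddCommGrpCat.{u}) (X := X) T.X₃.obj x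
    hxO hxO (T.g.hom.app (op O) t) 0 ha'
  obtain ⟨V, hVB, hxV, hVO⟩ := Opens.isBasis_iff_nbhd.mp hB hxO'
  obtain ⟨t', ht'⟩ := hloc V hVB (T.X₂.obj.map (homOfLE (hVO.trans (leOfHom i₁))).op t) (by
    rw [NatTrans.naturality_apply T.g.hom (homOfLE (hVO.trans (leOfHom i₁))).op t]
    have e : (homOfLE (hVO.trans (leOfHom i₁))).op = i₁.op ≫ (homOfLE hVO).op := rfl
    rw [e, Functor.map_comp, ConcreteCategory.comp_apply, he, map_zero, map_zero])
  refine ⟨gm T.X₁ V x hxV t', ?_⟩
  exact (stMap_gm T.f V x hxV t').trans ((congrArg (gm T.X₂ V x hxV) ht').trans (gm_res _ _ x hxV t))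

variable (R) in
/-- Sections over `U`. -/
noncomputable abbrev Gam (U : Opens X) : SheafOfModules.{u} R ⥤ AddCommGrpCat.{u} :=
  SheafOfModules.evaluation R (op U) ⋙ forget₂ _ AddCommGrpCat.{u}

theorem limit_sections_ext {F : ℕᵒᵖ ⥤ SheafOfModules.{u} R} (U : Opens X) {x y : (Gam R U).obj (limit F)}
    (h : ∀ n : ℕ, (Gam R U).map (limit.π F (op n)) x = (Gam R U).map (limit.π F (op n)) y) : x = y :=
  Concrete.isLimit_ext _ (isLimitOfPreserves (Gam R U) (limit.isLimit F)) x y fun ⟨n⟩ => h n

theorem exists_limit_section {F : ℕᵒᵖ ⥤ SheafOfModules.{u} R} (U : Opens X)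
    (s : ∀ n : ℕ, (Gam R U).obj (F.obj (op n)))
    (hs : ∀ n : ℕ, (Gam R U).map (F.map (homOfLE (Nat.le_add_right n 1)).op) (s (n + 1)) = s n) :
    ∃ x : (Gam R U).obj (limit F), ∀ n : ℕ, (Gam R U).map (limit.π F (op n)) x = s n := by
  let G := F ⋙ Gam R U
  have key : ∀ (a b : ℕ) (h : b ≤ a), G.map (homOfLE h).op (s a) = s b := by
    intro a b h
    induction a, h using Nat.le_induction with
    | base =>
      rw [show (homOfLE (le_refl b)).op = 𝟙 (op b) from rfl, CategoryTheory.Functor.map_id]
      rfl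
    | succ a h ih =>
      rw [show (homOfLE (h.trans (Nat.le_add_right a 1))).op =
          (homOfLE (Nat.le_add_right a 1)).op ≫ (homOfLE h).op from rfl, G.map_comp,
        ConcreteCategory.comp_apply]
      exact (congrArg (G.map (homOfLE h).op) (hs a)).trans ih
  let hlim := isLimitOfPreserves (forget AddCommGrpCat.{u}) (isLimitOfPreserves (Gam R U) (limit.isLimit F))
  refine ⟨(Types.isLimitEquivSections hlim).symm
    ⟨fun j => s j.unop, fun {j j'} f => key j.unop j'.unop (leOfHom f.unop)⟩, fun n => ?_⟩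
  exact Types.isLimitEquivSections_symm_apply hlim _ (op n)

variable {E : ℕᵒᵖ ⥤ SheafOfModules.{u} R} (Res : InjectiveResolution E)

/-- the augmentation -/
noncomputable def aug : E ⟶ Res.cocomplex.X 0 := Res.ι.f 0

theorem flasque_level (j n : ℕ) :
    TopCat.Sheaf.IsFlasque ((SheafOfModules.toSheaf R).obj ((Res.cocomplex.X j).obj (op n))) where
  epi {U V} i := by
    have := Res.injective j
    have : Injective ((Res.cocomplex.X j).obj (op n)) := injective_eval (op n) _
    exact (AddCommGrpCat.epi_iff_surjective _).mpr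
      (CohQC.sections_surjective_of_injective (R := R) ((Res.cocomplex.X j).obj (op n)) i.unop)

theorem trans_surjective (U : Opens X) (j n : ℕ) :
    Function.Surjective ((Gam R U).map ((Res.cocomplex.X j).map (homOfLE (Nat.le_add_right n 1)).op)) := by
  have := Res.injective j
  obtain ⟨s, hs⟩ := exists_section_of_injective (Res.cocomplex.X j) n
  intro x
  refine ⟨(Gam R U).map s x, ?_⟩
  rw [← ConcreteCategory.comp_apply, ← Functor.map_comp, hs, CategoryTheory.Functor.map_id]
  rfl

theorem gam_exact_succ {U : Opens X} (n : ℕ)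
    (ha : Acyc U ((SheafOfModules.toSheaf R).obj (E.obj (op n)))) (j : ℕ)
    (s : (Gam R U).obj ((Res.cocomplex.X (j + 1)).obj (op n)))
    (hs : (Gam R U).map ((Res.cocomplex.d (j + 1) (j + 2)).app (op n)) s = 0) :
    ∃ t, (Gam R U).map ((Res.cocomplex.d j (j + 1)).app (op n)) t = s := by
  let T := SheafOfModules.toSheaf.{u} R
  let ev := (evaluation ℕᵒᵖ (SheafOfModules.{u} R)).obj (op n)
  have : PreservesFiniteColimits T := CohQC.toSheaf_preservesFiniteColimits R
  have : (ev ⋙ T).PreservesHomology := Functor.preservesHomologyOfExact _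
  let K := ((ev ⋙ T).mapHomologicalComplex (ComplexShape.up ℕ)).obj Res.cocomplex
  have hex : ∀ m, K.ExactAt (m + 1) := fun m =>
    (HomologicalComplex.exactAt_iff K (m + 1)).mpr
      (((HomologicalComplex.exactAt_iff Res.cocomplex (m + 1)).mp (Res.cocomplex_exactAt_succ m)).map (ev ⋙ T))
  have hK : ∀ (V : Opens X) (m : ℕ), Acyc V (K.X m) := fun V m p =>
    haveI := flasque_level Res m n
    flasque_acyclic (T.obj ((Res.cocomplex.X m).obj (op n))) V p
  let e : T.obj (E.obj (op n)) ≅ K.cycles 0 :=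
    (ev ⋙ T).mapIso (IsLimit.conePointUniqueUpToIso Res.isLimitKernelFork
      (Res.cocomplex.cyclesIsKernel 0 1 (by simp))) ≪≫ ((Res.cocomplex.sc 0).mapCyclesIso (ev ⋙ T)).symm
  have hsub : Subsingleton (Abelian.Ext (CohCx.freeSheaf (Opens.grothendieckTopology X) U) (K.cycles 0) (j + 1)) :=
    acyc_of_iso e ha j
  obtain ⟨z, hz⟩ := exists_cycle_section (K := K) (U := U) (j + 1) s hs
  obtain ⟨t, ht⟩ := CohQC.clsAt_eq_zero K hex hK j U z (@Subsingleton.elim _ hsub _ _)
  refine ⟨t, ?_⟩
  rw [← hz, ← ht]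
  exact (ConcreteCategory.congr_hom (congr_arg (fun φ : K.X j ⟶ K.X (j + 1) => φ.hom.app (op U))
    (K.toCycles_i j (j + 1))) t).symm

theorem gam_exact_zero (U : Opens X) (n : ℕ) (s : (Gam R U).obj ((Res.cocomplex.X 0).obj (op n)))
    (hs : (Gam R U).map ((Res.cocomplex.d 0 1).app (op n)) s = 0) :
    ∃ a, (Gam R U).map ((aug Res).app (op n)) a = s := by
  let F := (evaluation ℕᵒᵖ (SheafOfModules.{u} R)).obj (op n) ⋙ Gam R U
  have : PreservesFiniteLimits (forget₂ (ModuleCat.{u} (R.obj.obj (op U))) AddCommGrpCat.{u}) := inferInstance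
  have : PreservesFiniteLimits F := inferInstance
  have : F.PreservesZeroMorphisms := ⟨fun _ _ => rfl⟩
  let S := ShortComplex.mk (aug Res) (Res.cocomplex.d 0 1) Res.ι_f_zero_comp_complex_d
  have : Mono S.f := inferInstanceAs (Mono (Res.ι.f 0))
  have hS : S.Exact := Res.exact₀
  have h : (S.map F).Exact := ShortComplex.exact_of_f_is_kernel _
    (isLimitForkMapOfIsLimit' F S.zero hS.fIsKernel)
  exact (ShortComplex.ab_exact_iff _).mp h s hs

section Main

variable [(lim : (ℕᵒᵖ ⥤ SheafOfModules.{u} R) ⥤ SheafOfModules.{u} R).Additive]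
  [HasInjectiveResolutions (ℕᵒᵖ ⥤ SheafOfModules.{u} R)]

variable (E) in
/-- vanishing from the lifting of compatible families of sections -/
theorem isZero_of_lift {B : Set (Opens X)} (hB : Opens.IsBasis B) (i : ℕ)
    (h : ∀ U ∈ B, ∀ c : ∀ n, (Gam R U).obj (((injectiveResolution E).cocomplex.X (i + 1)).obj (op n)),
      (∀ n, (Gam R U).map (((injectiveResolution E).cocomplex.X (i + 1)).map
        (homOfLE (Nat.le_add_right n 1)).op) (c (n + 1)) = c n) →
      (∀ n, (Gam R U).map (((injectiveResolution E).cocomplex.d (i + 1) (i + 2)).app (op n)) (c n) = 0) →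
      ∃ a : ∀ n, (Gam R U).obj (((injectiveResolution E).cocomplex.X i).obj (op n)),
        (∀ n, (Gam R U).map (((injectiveResolution E).cocomplex.X i).map
          (homOfLE (Nat.le_add_right n 1)).op) (a (n + 1)) = a n) ∧
        ∀ n, (Gam R U).map (((injectiveResolution E).cocomplex.d i (i + 1)).app (op n)) (a n) = c n) :
    IsZero (((lim : (ℕᵒᵖ ⥤ SheafOfModules.{u} R) ⥤ SheafOfModules.{u} R).rightDerived (i + 1)).obj E) := by
  let C := (injectiveResolution E).cocomplex
  refine IsZero.of_iso ?_ ((injectiveResolution E).isoRightDerivedObj _ (i + 1))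
  rw [HomologicalComplex.homologyFunctor_obj, ← HomologicalComplex.exactAt_iff_isZero_homology,
    HomologicalComplex.exactAt_iff' _ i (i + 1) (i + 2) (by simp) (by simp)]
  have : PreservesFiniteColimits (SheafOfModules.toSheaf.{u} R) := CohQC.toSheaf_preservesFiniteColimits R
  have : (SheafOfModules.toSheaf.{u} R).PreservesHomology := Functor.preservesHomologyOfExact _
  rw [← ShortComplex.exact_map_iff_of_faithful _ (SheafOfModules.toSheaf.{u} R)]
  refine exact_of_basis _ hB fun U hU x hx => ?_
  change ((Gam R U).obj (limit (C.X (i + 1))) : Type u) at x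
  change (Gam R U).map (limMap (C.d (i + 1) (i + 2))) x = 0 at hx
  let c := fun n => (Gam R U).map (limit.π (C.X (i + 1)) (op n)) x
  obtain ⟨a, ha1, ha2⟩ := h U hU c (fun n => by
      change (Gam R U).map _ ((Gam R U).map _ x) = _
      rw [← ConcreteCategory.comp_apply, ← Functor.map_comp, limit.w])
    (fun n => by
      change (Gam R U).map _ ((Gam R U).map _ x) = 0
      rw [← ConcreteCategory.comp_apply, ← Functor.map_comp, ← limMap_π, Functor.map_comp,
        ConcreteCategory.comp_apply, hx, map_zero])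
  obtain ⟨y, hy⟩ := exists_limit_section U a ha1
  refine ⟨y, ?_⟩
  change (Gam R U).map (limMap (C.d i (i + 1))) y = x
  refine limit_sections_ext U fun n => ?_
  rw [← ConcreteCategory.comp_apply, ← Functor.map_comp, limMap_π, Functor.map_comp,
    ConcreteCategory.comp_apply, hy]
  exact ha2 n

variable {B : Set (Opens X)} (hB : Opens.IsBasis B)
  (ha : ∀ U ∈ B, ∀ (n i : ℕ), 1 ≤ i →
    Subsingleton (CohTop.HU ((SheafOfModules.toSheaf R).obj (E.obj (op n))) i U))

include hB ha

theorem isZero_rightDerived_add_two (k : ℕ) :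
    IsZero (((lim : (ℕᵒᵖ ⥤ SheafOfModules.{u} R) ⥤ SheafOfModules.{u} R).rightDerived (k + 2)).obj E) := by
  refine isZero_of_lift E hB (k + 1) fun U hU c hc hdc => ?_
  let Res := injectiveResolution E
  have hA : ∀ n, Acyc U ((SheafOfModules.toSheaf R).obj (E.obj (op n))) := fun n p =>
    ha U hU n (p + 1) (Nat.le_add_left 1 p)
  refine exists_compat
    (fun n => ((Gam R U).map ((Res.cocomplex.X k).map (homOfLE (Nat.le_add_right n 1)).op)).hom)
    (fun n => ((Gam R U).map ((Res.cocomplex.X (k + 1)).map (homOfLE (Nat.le_add_right n 1)).op)).hom)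
    (fun n => ((Gam R U).map ((Res.cocomplex.X (k + 2)).map (homOfLE (Nat.le_add_right n 1)).op)).hom)
    (fun n => ((Gam R U).map ((Res.cocomplex.d k (k + 1)).app (op n))).hom)
    (fun n => ((Gam R U).map ((Res.cocomplex.d (k + 1) (k + 2)).app (op n))).hom)
    (fun n x => ?_) (fun n x => ?_) (fun n x => ?_) (fun n a h => gam_exact_succ Res n (hA n) k a h)
    (solve_of_surjective _ fun n => trans_surjective Res U k n) c hc
    fun n => gam_exact_succ Res n (hA n) (k + 1) (c n) (hdc n)
  · change (Gam R U).map _ ((Gam R U).map _ x) = (Gam R U).map _ ((Gam R U).map _ x)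
    simp only [← ConcreteCategory.comp_apply, ← Functor.map_comp, NatTrans.naturality]
  · change (Gam R U).map _ ((Gam R U).map _ x) = (Gam R U).map _ ((Gam R U).map _ x)
    simp only [← ConcreteCategory.comp_apply, ← Functor.map_comp, NatTrans.naturality]
  · change (Gam R U).map _ ((Gam R U).map _ x) = 0
    rw [← ConcreteCategory.comp_apply, ← Functor.map_comp, ← NatTrans.comp_app,
      HomologicalComplex.d_comp_d]
    rfl

theorem isZero_rightDerived_one
    (hml : ∀ U ∈ B, (E ⋙ SheafOfModules.toSheaf R ⋙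
        (sheafSections (Opens.grothendieckTopology X) AddCommGrpCat.{u}).obj (op U) ⋙
          forget AddCommGrpCat.{u}).IsMittagLeffler) :
    IsZero (((lim : (ℕᵒᵖ ⥤ SheafOfModules.{u} R) ⥤ SheafOfModules.{u} R).rightDerived 1).obj E) := by
  refine isZero_of_lift E hB 0 fun U hU c hc hdc => ?_
  let Res := injectiveResolution E
  have hA : ∀ n, Acyc U ((SheafOfModules.toSheaf R).obj (E.obj (op n))) := fun n p =>
    ha U hU n (p + 1) (Nat.le_add_left 1 p)
  let tG : ∀ n, (Gam R U).obj (E.obj (op (n + 1))) →+ (Gam R U).obj (E.obj (op n)) :=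
    fun n => ((Gam R U).map (E.map (homOfLE (Nat.le_add_right n 1)).op)).hom
  have hsolve : ∀ z : ∀ n, (Gam R U).obj (E.obj (op n)),
      ∃ w : ∀ n, (Gam R U).obj (E.obj (op n)), ∀ n, w n - tG n (w (n + 1)) = z n := by
    have hsub := LimMilnor.limOne_eq_zero_of_ml (G := fun n => (Gam R U).obj (E.obj (op n))) tG
      (fun n e => ((Gam R U).map (E.map (homOfLE (Nat.le_add_right n e)).op)).hom) (fun n x => ?_)
      (fun n e x => ?_) (fun n => ?_)
    · intro z
      obtain ⟨w, hw⟩ := (QuotientAddGroup.eq_zero_iff z).mp (@Subsingleton.elim _ hsub (z : _) 0)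
      exact ⟨w, fun n => congrFun hw n⟩
    · change (Gam R U).map (E.map (𝟙 (op n))) x = x
      simp
    · change (Gam R U).map _ x = (Gam R U).map _ ((Gam R U).map _ x)
      rw [← ConcreteCategory.comp_apply, ← Functor.map_comp, ← E.map_comp]
      rfl
    · obtain ⟨⟨i⟩, f, hf⟩ := hml U hU (op n)
      have hni : n ≤ i := leOfHom f.unop
      refine ⟨i - n, fun e he y hy => ?_⟩
      obtain ⟨x, rfl⟩ := hy
      have hlift : ∀ (a : ℕ) (h : n ≤ a) (_ : a = n + (i - n))
          (z : (Gam R U).obj (E.obj (op (n + (i - n))))), ∃ z' : (Gam R U).obj (E.obj (op a)),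
          (Gam R U).map (E.map (homOfLE h).op) z' =
            (Gam R U).map (E.map (homOfLE (Nat.le_add_right n (i - n))).op) z := by
        rintro a h rfl z
        exact ⟨z, rfl⟩
      obtain ⟨x', hx'⟩ := hlift i hni (by omega) x
      obtain ⟨w, hw⟩ := hf (homOfLE (Nat.le_add_right n e)).op ⟨x', hx'⟩
      exact ⟨w, hw⟩
  refine exists_compat tG
    (fun n => ((Gam R U).map ((Res.cocomplex.X 0).map (homOfLE (Nat.le_add_right n 1)).op)).hom)
    (fun n => ((Gam R U).map ((Res.cocomplex.X 1).map (homOfLE (Nat.le_add_right n 1)).op)).hom)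
    (fun n => ((Gam R U).map ((aug Res).app (op n))).hom)
    (fun n => ((Gam R U).map ((Res.cocomplex.d 0 1).app (op n))).hom)
    (fun n x => ?_) (fun n x => ?_) (fun n x => ?_) (fun n a h => gam_exact_zero Res U n a h)
    hsolve c hc fun n => gam_exact_succ Res n (hA n) 0 (c n) (hdc n)
  · change (Gam R U).map _ ((Gam R U).map _ x) = (Gam R U).map _ ((Gam R U).map _ x)
    simp only [← ConcreteCategory.comp_apply, ← Functor.map_comp, NatTrans.naturality]
  · change (Gam R U).map _ ((Gam R U).map _ x) = (Gam R U).map _ ((Gam R U).map _ x)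
    simp only [← ConcreteCategory.comp_apply, ← Functor.map_comp, NatTrans.naturality]
  · change (Gam R U).map _ ((Gam R U).map _ x) = 0
    rw [← ConcreteCategory.comp_apply, ← Functor.map_comp, ← NatTrans.comp_app,
      show aug Res ≫ Res.cocomplex.d 0 1 = 0 from Res.ι_f_zero_comp_complex_d]
    rfl

end Main

end Groth.Agent.LimBasis
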