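import Mathlib.CategoryTheory.Functor.OfSequence
import Mathlib.CategoryTheory.Adjunction.Evaluation
import Mathlib.CategoryTheory.Abelian.Basic
import Mathlib.CategoryTheory.Preadditive.Injective.Basic
import Mathlib.Algebra.Group.Pi.Basic
import Mathlib.CategoryTheory.Limits.Shapes.FiniteProducts

/-!
Injective objects among towers, and lifting compatible families through exact sequences of towers.
-/

set_option autoImplicit false
set_option linter.style.haveILetI false
set_option backward.isDefEq.respectTransparency false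
set_option backward.isDefEq.respectTransparency.types false

universe v u

open CategoryTheory Category Limits Opposite

namespace Groth.Agent.LimBasis

section

variable {A : Type u} [Category.{v} A] [HasZeroMorphisms A] [HasZeroObject A]

lemma mono_sigma_desc_of_subsingleton {J : Type*} [Subsingleton J] [HasColimitsOfShape (Discrete J) A]
    {Y Z : A} (f : Y ⟶ Z) [Mono f] :
    Mono (Sigma.desc (fun j : J => f ≫ Sigma.ι (fun _ : J => Z) j) : (∐ fun _ : J => Y) ⟶ _) := by
  rcases isEmpty_or_nonempty J with hJ | ⟨⟨j₀⟩⟩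
  · refine ⟨fun a b _ => ?_⟩
    have hz : IsZero (∐ fun _ : J => Y) :=
      (IsZero.iff_id_eq_zero _).mpr (Sigma.hom_ext _ _ fun j => isEmptyElim j)
    exact hz.eq_of_tgt a b
  · have h1 : IsIso (Sigma.desc (fun _ : J => 𝟙 Y)) :=
      ⟨⟨Sigma.ι (fun _ : J => Y) j₀, Sigma.hom_ext _ _ fun j => by
        obtain rfl := Subsingleton.elim j₀ j
        simp, by simp⟩⟩
    have key : Sigma.desc (fun j : J => f ≫ Sigma.ι (fun _ : J => Z) j) ≫ Sigma.desc (fun _ : J => 𝟙 Z) =
        Sigma.desc (fun _ : J => 𝟙 Y) ≫ f := Sigma.hom_ext _ _ fun j => by simp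
    exact mono_of_mono_fac key

variable {C : Type*} [Category C] [∀ a b : C, Subsingleton (a ⟶ b)]
  [∀ a b : C, HasColimitsOfShape (Discrete (a ⟶ b)) A]

/-- evaluations of injective diagrams over a thin category are injective -/
theorem injective_eval (c : C) (I : C ⥤ A) [hI : Injective I] : Injective (I.obj c) := by
  have : (evaluationLeftAdjoint A c).PreservesMonomorphisms :=
    ⟨fun {Y Z} f _ => by
      have : ∀ t, Mono (((evaluationLeftAdjoint A c).map f).app t) := fun t =>
        mono_sigma_desc_of_subsingleton (J := c ⟶ t) f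
      exact NatTrans.mono_of_mono_app _⟩
  exact Injective.injective_of_adjoint (evaluationAdjunctionRight A c) I

end

section

variable {A : Type u} [Category.{v} A] [HasZeroMorphisms A] [HasFiniteProducts A]

/-- transition maps of injective towers are split epimorphisms -/
theorem exists_section_of_injective (I : ℕᵒᵖ ⥤ A) [Injective I] (n : ℕ) :
    ∃ s : I.obj (op n) ⟶ I.obj (op (n + 1)), s ≫ I.map (homOfLE (Nat.le_add_right n 1)).op = 𝟙 _ := by
  classical
  let P : ℕ → A := fun n => ∏ᶜ fun m : Fin (n + 1) => I.obj (op (m : ℕ))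
  let t : ∀ n, P (n + 1) ⟶ P n := fun n => Pi.lift fun m => Pi.π (fun m : Fin (n + 1 + 1) => I.obj (op (m : ℕ))) m.castSucc
  let toP : ∀ n, I.obj (op n) ⟶ P n := fun n => Pi.lift fun m => I.map (homOfLE (Nat.lt_succ_iff.mp m.isLt)).op
  let θ : I ⟶ Functor.ofOpSequence t := NatTrans.ofOpSequence toP fun n => by
    rw [Functor.ofOpSequence_map_homOfLE_succ]
    refine Pi.hom_ext _ _ fun m => ?_
    rw [assoc, assoc]
    erw [Pi.lift_π, Pi.lift_π, Pi.lift_π, ← I.map_comp]
    rfl
  have : Mono θ := by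
    have : ∀ c, Mono (θ.app c) := fun c => by
      change Mono (toP c.unop)
      have key : toP c.unop ≫ Pi.π (fun m : Fin (c.unop + 1) => I.obj (op (m : ℕ))) (Fin.last _) =
          𝟙 (I.obj c) := by
        simp only [toP]
        rw [Pi.lift_π]
        exact I.map_id c
      have : Mono (toP c.unop ≫ Pi.π (fun m : Fin (c.unop + 1) => I.obj (op (m : ℕ))) (Fin.last _)) := by
        rw [key]; exact inferInstanceAs (Mono (𝟙 (I.obj c)))
      exact mono_of_mono _ (Pi.π (fun m : Fin (c.unop + 1) => I.obj (op (m : ℕ))) (Fin.last _))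
    exact NatTrans.mono_of_mono_app _
  let r := Injective.factorThru (𝟙 I) θ
  have hr : θ ≫ r = 𝟙 I := Injective.comp_factorThru _ _
  let z : P n ⟶ P (n + 1) := Pi.lift fun m =>
    if h : (m : ℕ) ≤ n then Pi.π (fun k : Fin (n + 1) => I.obj (op (k : ℕ))) ⟨m, Nat.lt_succ_of_le h⟩
    else 0
  have hz : z ≫ t n = 𝟙 _ := by
    refine Pi.hom_ext _ _ fun m => ?_
    simp only [z, t, assoc, Pi.lift_π, id_comp]
    exact dif_pos (Nat.lt_succ_iff.mp m.isLt)
  have hnat := r.naturality (homOfLE (Nat.le_add_right n 1)).op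
  rw [Functor.ofOpSequence_map_homOfLE_succ] at hnat
  refine ⟨toP n ≫ z ≫ r.app (op (n + 1)), ?_⟩
  rw [assoc, assoc]
  erw [← hnat, reassoc_of% hz]
  exact congr_app hr (op n)

end

section

variable {G A B : ℕ → Type u} [∀ n, AddCommGroup (G n)] [∀ n, AddCommGroup (A n)] [∀ n, AddCommGroup (B n)]
  (tG : ∀ n, G (n + 1) →+ G n) (tA : ∀ n, A (n + 1) →+ A n) (tB : ∀ n, B (n + 1) →+ B n)
  (ι : ∀ n, G n →+ A n) (d : ∀ n, A n →+ B n)

/-- compatible families lift, when the kernel tower has no `lim¹` -/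
theorem exists_compat (hι : ∀ n x, ι n (tG n x) = tA n (ι (n + 1) x))
    (hd : ∀ n x, d n (tA n x) = tB n (d (n + 1) x)) (hdι : ∀ n x, d n (ι n x) = 0)
    (hex : ∀ n a, d n a = 0 → ∃ g, ι n g = a)
    (hsolve : ∀ z : ∀ n, G n, ∃ w : ∀ n, G n, ∀ n, w n - tG n (w (n + 1)) = z n)
    (c : ∀ n, B n) (hc : ∀ n, tB n (c (n + 1)) = c n) (hlift : ∀ n, ∃ b, d n b = c n) :
    ∃ a : ∀ n, A n, (∀ n, tA n (a (n + 1)) = a n) ∧ ∀ n, d n (a n) = c n := by
  choose b hb using hlift
  have hz : ∀ n, d n (tA n (b (n + 1)) - b n) = 0 := fun n => by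
    rw [map_sub, hd, hb, hb, hc, sub_self]
  choose z hz using fun n => hex n _ (hz n)
  obtain ⟨w, hw⟩ := hsolve z
  refine ⟨fun n => b n + ι n (w n), fun n => ?_, fun n => ?_⟩
  · have h := congrArg (ι n) (hw n)
    rw [map_sub, hι, hz] at h
    dsimp only
    rw [map_add, ← sub_eq_zero]
    rw [sub_eq_iff_eq_add] at h
    rw [h]
    abel
  · rw [map_add, hb, hdι, add_zero]

/-- surjective towers have no `lim¹` -/
theorem solve_of_surjective (h : ∀ n, Function.Surjective (tG n)) (z : ∀ n, G n) :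
    ∃ w : ∀ n, G n, ∀ n, w n - tG n (w (n + 1)) = z n := by
  choose s hs using fun n => h n
  refine ⟨fun n => Nat.rec (motive := G) 0 (fun k w => s k (w - z k)) n, fun n => ?_⟩
  simp only [hs, sub_sub_cancel]

end

end Groth.Agent.LimBasis
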